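import Groth.Agent.ProjGen7.Detect
import Groth.Agent.AmpleFam7.Main
import Groth.Agent.AmpleX.Separated
import Groth.Agent.AmpleX.Locus
import Groth.Agent.InvUfdLib.Trivial

/-!
# The negative powers of an ample module detect objects with quasi-coherent cohomology
-/

set_option autoImplicit false
set_option linter.style.haveILetI false
set_option backward.isDefEq.respectTransparency false
set_option backward.isDefEq.respectTransparency.types false

universe u

open CategoryTheory CategoryTheory.Limits AlgebraicGeometry TopologicalSpace Opposite MonoidalCategory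
open Groth.Agent.H23.PicMul

attribute [local instance] HasDerivedCategory.standard

noncomputable section

namespace Groth.Agent.AmpleHom7
open Groth.Agent Groth.Agent.KFlatLib

variable {X : Scheme.{u}}

/-- A section killed by whatever kills a map lifts to its source. -/
theorem exists_lift {D M : X.Modules} (hD : Coh.IsQCoh D) (hM : Coh.IsQCoh M) (ψ : D ⟶ M)
    {W : X.Opens} (hW : IsAffineOpen W) (t : Γ(M, W))
    (h : (cokernel.π ψ).app W t = 0) : ∃ τ : Γ(D, W), ψ.app W τ = t := by
  have key : ∀ (V : X.Opens) (hV : V.ι ''ᵁ ⊤ = W), ∃ τ : Γ(D, W), ψ.app W τ = t := by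
    rintro V rfl
    let z := (secEquiv V M).symm t
    have hz : z ≫ cokernel.π ψ = 0 := (secEquiv V _).injective (by
      rw [secEquiv_naturality, Equiv.apply_symm_apply, h, secEquiv_zero])
    let z' : secObj V ⟶ Abelian.image ψ := kernel.lift _ z hz
    have hI : Coh.IsQCoh (Abelian.image ψ) :=
      QCoh.isQCoh_kernel hM (QCoh.isQCoh_cokernel hD hM ψ) (cokernel.π ψ)
    obtain ⟨τ, hτ⟩ := QCoh.app_surjective_of_epi hD hI (Abelian.factorThruImage ψ) hW (secEquiv V _ z')
    refine ⟨τ, ?_⟩
    refine (congrArg (fun g : D ⟶ M => g.app (V.ι ''ᵁ ⊤) τ) (Abelian.image.fac ψ)).symm.trans ?_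
    show (Abelian.image.ι ψ).app _ ((Abelian.factorThruImage ψ).app _ τ) = t
    rw [hτ, ← secEquiv_naturality, kernel.lift_ι, Equiv.apply_symm_apply]
  exact key W W.ι_image_top

/-- Negative powers of a module with sections having an affine cover by their loci. -/
theorem testFam [CompactSpace X] [QuasiSeparatedSpace X] {A : X.Modules} (hA : PicF.IsInvertible A)
    {κ : Type u} (σ : κ → (Coh.structureModule X ⟶ A))
    (haff : ∀ k, IsAffineOpen (CohB1.genLocus A (σ k)))
    (hcov : ∀ x : X, ∃ k, x ∈ CohB1.genLocus A (σ k))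
    (D : ℕ → X.Modules) (hD : ∀ i, PicF.IsInvertible (D i))
    (hDA : ∀ i, PicF.cl (D i) * PicF.cl (CohB1.tensorPow A i) = 1) :
    ProjGen7.TestFam (fun k => CohB1.genLocus A (σ k)) D where
  cover := top_le_iff.1 fun x _ => Opens.mem_iSup.2 (hcov x)
  aff := haff
  qcoh i := ProjUPX.isQCoh_of_isInvertible (hD i)
  triv k i := by
    let j := (CohB1.genLocus A (σ k)).ι
    have key : ∀ (W : X.Opens), W = CohB1.genLocus A (σ k) → ∃ a : Γ(A, W), InvX.IsFrame a := by
      rintro W rfl
      exact ⟨_, AmpleX.res_genLocus_frame (σ k)⟩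
    obtain ⟨a, ha⟩ := key (j ''ᵁ ⊤) (Scheme.Opens.ι_image_top _)
    obtain ⟨eA⟩ := InvUfdLib.nonempty_iso_of_frame (L := A.restrict j) (s := a)
      ((AmpleX.isFrame_restrict_iff (M := A) j (V := ⊤) a).2 ha)
    have hA1 : PicF.pullCl j (PicF.cl A) = 1 := by
      rw [← AmpleX.cl_restrict]
      exact cl_eq_iff.2 ⟨eA⟩
    refine cl_eq_iff.1 ?_
    have h := congrArg (PicF.pullCl j) (hDA i)
    rw [H23.PicMul.pullCl_mul, cl_tensorPow, H23.PicMul.pullCl_pow, hA1, one_pow, _root_.mul_one,
      H23.PicMul.pullCl_one] at h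
    rw [AmpleX.cl_restrict, h]
    rfl
  ext k M hM z := by
    let G := CohB1.genLocus A (σ k)
    have key : ∀ W : X.Opens, W = G → ∀ t : Γ(M, W),
        ∃ (i : ℕ) (ψ : D i ⟶ M) (τ : Γ(D i, W)), ψ.app W τ = t := by
      rintro W rfl t
      obtain ⟨Q, hQ⟩ := AmpleX.exists_extend' hM hA (σ k) t
      obtain ⟨T, hT⟩ := hQ Q le_rfl
      let P := CohB1.tensorPow A Q
      have hP : PicF.IsInvertible P := InvX.isInvertible_tensorPow hA _
      obtain ⟨e⟩ : Nonempty (CohB1.tensorMod P (D Q) ≅ Coh.structureModule X) :=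
        cl_eq_iff.1 (by rw [cl_tensor, mul_comm, hDA]; rfl)
      obtain ⟨c₁⟩ := H23.PicMul.comm (Coh.structureModule X) (D Q)
      let ε : AmpleVan.tw P ⋙ AmpleVan.tw (D Q) ≅ 𝟭 X.Modules :=
        AmpleVan.twComp P (D Q) ≪≫ (DCoh.tensorBi (X := X)).flip.mapIso e ≪≫ AmpleVan.twUnit
      let a : (AmpleVan.tw (D Q)).obj (Coh.structureModule X) ≅ D Q := c₁ ≪≫ AmpleVan.twUnit.app (D Q)
      let ψ : D Q ⟶ M := a.inv ≫ (AmpleVan.tw (D Q)).map (InvX.ofSect T) ≫ ε.hom.app M
      haveI := AmpleVan.isEquivalence_tw (hD Q)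
      refine ⟨Q, ψ, exists_lift (ProjUPX.isQCoh_of_isInvertible (hD Q)) hM ψ (haff k) t ?_⟩
      suffices hgen : ∀ {N : X.Modules} (u : M ⟶ N), ψ ≫ u = 0 → u.app G t = 0 from
        hgen (cokernel.π ψ) (cokernel.condition ψ)
      intro N u hu
      have h1 : (AmpleVan.tw (D Q)).map (InvX.ofSect T ≫ (AmpleVan.tw P).map u) = 0 := by
        have h := hu
        simp only [ψ, Category.assoc, Preadditive.IsIso.comp_left_eq_zero] at h
        have hn := ε.hom.naturality u
        rw [Functor.id_map] at hn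
        rw [← hn, Functor.comp_map, ← Category.assoc, ← Functor.map_comp,
          Preadditive.IsIso.comp_right_eq_zero] at h
        exact h
      haveI : (AmpleVan.tw (D Q)).Additive := Functor.additive_of_preserves_binary_products _
      have h2 : InvX.ofSect T ≫ (AmpleVan.tw P).map u = 0 :=
        (AmpleVan.tw (D Q)).map_injective (h1.trans ((AmpleVan.tw (D Q)).map_zero _ _).symm)
      have h3 : ((AmpleVan.tw P).map u).app ⊤ T = 0 := by
        have := congrArg InvX.one h2
        rw [show InvX.one (InvX.ofSect T ≫ (AmpleVan.tw P).map u) =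
          ((AmpleVan.tw P).map u).app ⊤ (InvX.one (InvX.ofSect T)) from rfl, InvX.one_ofSect] at this
        exact this
      have h4 := congrArg (AModX.res _ (le_top : G ≤ ⊤)) h3
      rw [← AModX.app_res, map_zero] at h4
      erw [hT, AmpleFam7.twMap_app_tmul] at h4
      have hfr : InvX.IsFrame (AmpleX.powElt (AModX.res A (le_top : G ≤ ⊤) (InvX.one (σ k))) Q) :=
        AmpleX.isFrame_powElt (AmpleX.res_genLocus_frame (σ k)) Q
      apply (FlatTwist.bijective_tmul_frame (M := N) hfr (le_refl G)).1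
      simp only [AModX.res_self]
      rw [h4]
      have := InvX.tmul_smul_left (0 : Γ(X, G)) (0 : Γ(N, G))
        (AmpleX.powElt (AModX.res A (le_top : G ≤ ⊤) (InvX.one (σ k))) Q)
      rw [zero_smul, zero_smul] at this
      exact this.symm
    obtain ⟨i, ψ, τ, hτ⟩ := key _ (Scheme.Opens.ι_image_top _) (secEquiv _ _ z)
    refine ⟨i, ψ, (secEquiv _ _).symm τ, (secEquiv _ _).injective ?_⟩
    rw [secEquiv_naturality, Equiv.apply_symm_apply, hτ]

end Groth.Agent.AmpleHom7

end
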