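import Groth.Agent.KFlatLib.Scheme.RGammaPush

/-!
# Vanishing hypercohomology kills maps from the structure sheaf
-/

set_option autoImplicit false
set_option linter.style.haveILetI false
set_option backward.isDefEq.respectTransparency false
set_option backward.isDefEq.respectTransparency.types false

universe u

open CategoryTheory CategoryTheory.Limits AlgebraicGeometry Opposite

attribute [local instance] HasDerivedCategory.standard

noncomputable section

namespace Groth.Agent.AmpleHom7
open Groth.Agent.KFlatLib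

variable {X : Scheme.{u}} [DCoh.HasRΓ X]

/-- `RΓ` is computed by K-injective complexes. -/
theorem nonempty_RΓ_iso (I : CochainComplex X.Modules ℤ) [I.IsKInjective] :
    Nonempty ((DCoh.RΓ X).obj (DerivedCategory.Q.obj I) ≅
      DerivedCategory.Q.obj (((DCoh.gammaAb X).mapHomologicalComplex (ComplexShape.up ℤ)).obj I)) := by
  haveI := isIso_rightDerivedUnit_of_kInjective (DCoh.gammaKh X) I
  exact ⟨(DCoh.RΓ X).mapIso ((DerivedCategory.quotientCompQhIso X.Modules).app I).symm ≪≫
    (asIso (((DCoh.gammaKh X).totalRightDerivedUnit DerivedCategory.Qh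
      (HomotopyCategory.quasiIso X.Modules (ComplexShape.up ℤ))).app _)).symm ≪≫
    (DerivedCategory.quotientCompQhIso AddCommGrpCat.{u}).app
      (((DCoh.gammaAb X).mapHomologicalComplex (ComplexShape.up ℤ)).obj I)⟩

theorem eq_zero_of_isZero (G : DCoh.D X) (p : ℤ)
    (h : IsZero ((DerivedCategory.homologyFunctor AddCommGrpCat.{u} p).obj ((DCoh.RΓ X).obj G)))
    (φ : (DerivedCategory.singleFunctor X.Modules p).obj (Coh.structureModule X) ⟶ G) : φ = 0 := by
  obtain ⟨I, s, hI, hs⟩ := exists_kInjective_res (DerivedCategory.Q.objPreimage G)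
  haveI := hI; haveI := hs
  haveI : IsIso (DerivedCategory.Q.map s) := (DerivedCategory.isIso_Q_map_iff_quasiIso _ _).2 inferInstance
  let eG : DerivedCategory.Q.obj I ≅ G :=
    (asIso (DerivedCategory.Q.map s)).symm ≪≫ DerivedCategory.Q.objObjPreimageIso G
  obtain ⟨eΓ⟩ := nonempty_RΓ_iso I
  let c := ComplexShape.up ℤ
  let ΓI := ((DCoh.gammaAb X).mapHomologicalComplex c).obj I
  have hex : ΓI.ExactAt p := by
    rw [HomologicalComplex.exactAt_iff_isZero_homology]
    exact h.of_iso (((DerivedCategory.homologyFunctorFactors AddCommGrpCat.{u} p).app ΓI).symm ≪≫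
      (DerivedCategory.homologyFunctor _ p).mapIso (eΓ.symm ≪≫ (DCoh.RΓ X).mapIso eG))
  rw [HomologicalComplex.exactAt_iff' _ (p - 1) p (p + 1) (CochainComplex.prev ℤ p) (CochainComplex.next ℤ p), ShortComplex.ab_exact_iff] at hex
  let O := Coh.structureModule X
  let P := (HomologicalComplex.single X.Modules c p).obj O
  let α := (DerivedCategory.singleFunctorIsoCompQ X.Modules p).app O
  let q := HomotopyCategory.quotient X.Modules c
  let c' := DerivedCategory.quotientCompQhIso X.Modules
  obtain ⟨v, hv⟩ := (CochainComplex.IsKInjective.Qh_map_bijective (q.obj P) I).2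
    (c'.hom.app P ≫ (α.inv ≫ φ ≫ eG.inv) ≫ c'.inv.app I)
  obtain ⟨f, rfl⟩ := q.map_surjective v
  have hQ : DerivedCategory.Q.map f = α.inv ≫ φ ≫ eG.inv := by
    rw [← cancel_epi (c'.hom.app P), ← c'.hom.naturality f]
    show DerivedCategory.Qh.map (q.map f) ≫ _ = _
    rw [hv]
    simp
  let σ : O ⟶ I.X p := (HomologicalComplex.singleObjXSelf c p O).inv ≫ f.f p
  have hσ : σ ≫ I.d p (p + 1) = 0 := by
    simp only [σ, Category.assoc, f.comm]
    simp only [P, HomologicalComplex.single_obj_d, zero_comp, comp_zero]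
  obtain ⟨w, hw⟩ := hex (topEquiv _ σ)
    ((topEquiv_naturality σ (I.d p (p + 1))).symm.trans ((congrArg (topEquiv _) hσ).trans (topEquiv_zero _)))
  obtain ⟨η, rfl⟩ := (topEquiv (I.X (p - 1))).surjective w
  have hη : η ≫ I.d (p - 1) p = σ := (topEquiv _).injective ((topEquiv_naturality η _).trans hw)
  let g : ∀ i j, c.Rel j i → (P.X i ⟶ I.X j) := fun i j _ =>
    if h : i = p ∧ j = p - 1 then (HomologicalComplex.singleObjXIsoOfEq c p O i h.1).hom ≫ η ≫
      (I.XIsoOfEq h.2.symm).hom else 0
  have hh : Homotopy f 0 := Homotopy.trans (Homotopy.ofEq (by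
      apply HomologicalComplex.from_single_hom_ext
      rw [Homotopy.nullHomotopicMap'_f (show c.Rel (p - 1) p by simp [c]) (show c.Rel p (p + 1) from rfl),
        HomologicalComplex.single_obj_d, zero_comp, zero_add]
      rw [← Category.id_comp (f.f p), ← (HomologicalComplex.singleObjXSelf c p O).hom_inv_id, Category.assoc]
      change _ ≫ σ = _
      rw [← hη]
      simp [g, HomologicalComplex.XIsoOfEq_rfl]
      rfl)) (Homotopy.nullHomotopy' g)
  have h0 := DerivedCategory.Q_map_eq_of_homotopy (h := hh)
  rw [hQ, Functor.map_zero, Preadditive.IsIso.comp_left_eq_zero, Preadditive.IsIso.comp_right_eq_zero] at h0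
  exact h0

end Groth.Agent.AmpleHom7

end
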