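import Groth.Agent.AmpleHom7.Fam
import Groth.Agent.AmpleHom7.Gamma
import Groth.Agent.ProjTwists7.Twist
import Groth.Agent.AmpleX.Generated

/-!
# Some twist of a nonzero object has nonzero hypercohomology
-/

set_option autoImplicit false
set_option linter.style.haveILetI false
set_option backward.isDefEq.respectTransparency false
set_option backward.isDefEq.respectTransparency.types false

universe u

open CategoryTheory CategoryTheory.Limits AlgebraicGeometry
open Groth.Agent.H23.PicMul

attribute [local instance] HasDerivedCategory.standard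

noncomputable section

namespace Groth.Agent.AmpleHom7
open Groth.Agent Groth.Agent.KFlatLib

variable {X : Scheme.{u}}

theorem exists_nonzero_hyper {L : X.Modules} (hL : CohB1.IsAmple L) [DCoh.HasRΓ X]
    [∀ n : ℕ, DCoh.HasLTensorMod (CohB1.tensorPow L n)] {K : DCoh.D X} (hK : DCoh.IsQCohD K) (hK0 : ¬ IsZero K) :
    ∃ (n : ℕ) (p : ℤ), ¬ IsZero ((DerivedCategory.homologyFunctor AddCommGrpCat.{u} p).obj
      ((DCoh.RΓ X).obj ((DCoh.LTensorMod (CohB1.tensorPow L n)).obj K))) := by
  haveI := hL.2.1
  haveI := AmpleX.isSeparated_of_isAmple hL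
  by_contra hall
  simp only [not_exists, not_not] at hall
  refine hK0 ?_
  obtain ⟨a, -, κ, hκ, σ, haff, -, hcov⟩ := AmpleX.exists_cover_genLocus hL
  haveI := Finite.of_fintype κ
  let A := CohB1.tensorPow L a
  have hA : PicF.IsInvertible A := InvX.isInvertible_tensorPow hL.1 _
  choose D hD hDA using fun i => H23.PicInv.exists_inverse (InvX.isInvertible_tensorPow hA i)
  have hcl : ∀ i, PicF.cl (D i) * PicF.cl (CohB1.tensorPow A i) = 1 := fun i => by
    rw [mul_comm, ← cl_tensor]
    exact cl_eq_iff.2 (hDA i)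
  refine ProjGen7.isZero_of_test (testFam hA σ haff hcov D hD hcl) hK fun i m φ => ?_
  let P := CohB1.tensorPow L (a * i)
  have hP : PicF.IsInvertible P := InvX.isInvertible_tensorPow hL.1 _
  haveI := ProjTwists7.isEquivalence_twD hP
  obtain ⟨e⟩ := ProjTwists7.nonempty_twD_shift_inD hP (D i) m
  obtain ⟨e'⟩ : Nonempty ((AmpleVan.tw P).obj (D i) ≅ Coh.structureModule X) := cl_eq_iff.1 (by
    show PicF.cl (CohB1.tensorMod (D i) P) = _
    rw [cl_tensor, cl_tensorPow, pow_mul, ← cl_tensorPow, ← cl_tensorPow, hcl]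
    rfl)
  obtain ⟨t⟩ := ProjTwists7.nonempty_twD_iso hP K
  let s : (ProjTwists7.twD hP).obj ((DCoh.inD X (D i))⟦m⟧) ≅
      (DerivedCategory.singleFunctor X.Modules (-m)).obj (Coh.structureModule X) :=
    e ≪≫ (shiftFunctor _ m).mapIso ((DerivedCategory.singleFunctor _ 0).mapIso e') ≪≫
      ((DerivedCategory.singleFunctors X.Modules).shiftIso m (-m) 0 (by omega)).app _
  refine (ProjTwists7.twD hP).map_injective ?_
  rw [← cancel_epi s.inv, ← cancel_mono t.inv, Functor.map_zero, comp_zero, zero_comp]
  exact eq_zero_of_isZero _ (-m) (hall (a * i) (-m)) _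

end Groth.Agent.AmpleHom7

end
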